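/-
Half-transitive linear groups: irreducibility, fixed-point-free groups, some arithmetic.
-/
import Cfsg.Agent.Lib.Coprime.UniqueOrderP
import Mathlib.LinearAlgebra.Projection
import Mathlib.GroupTheory.GroupAction.Quotient
import Mathlib.Tactic

set_option autoImplicit false

namespace CfsgLib.Char.HalfLinear

open Subgroup

variable {q : ℕ} [Fact q.Prime] {V : Type*} [AddCommGroup V] [Module (ZMod q) V] {G : Type*} [Group G]
  {ρ : G →* (V ≃ₗ[ZMod q] V)}

theorem mulρ (a b : G) (v : V) : ρ (a * b) v = ρ a (ρ b v) := by rw [map_mul]; rfl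

theorem oneρ (v : V) : ρ 1 v = v := by rw [map_one]; rfl

theorem inv_apply {g : G} {v : V} (h : ρ g v = v) : ρ g⁻¹ v = v := by
  conv_lhs => rw [← h]
  rw [← mulρ, inv_mul_cancel, oneρ]

theorem pow_apply {g : G} {v : V} (h : ρ g v = v) (n : ℕ) : ρ (g ^ n) v = v := by
  induction n with
  | zero => rw [pow_zero, oneρ]
  | succ n ih => rw [pow_succ, mulρ, h, ih]

theorem zpow_apply {g : G} {v : V} (h : ρ g v = v) (n : ℤ) : ρ (g ^ n) v = v := by
  obtain ⟨m, rfl | rfl⟩ := n.eq_nat_or_neg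
  · rw [zpow_natCast]; exact pow_apply h m
  · rw [zpow_neg, zpow_natCast]; exact inv_apply (pow_apply h m)

theorem eq_one_of_forall (hρ : Function.Injective ρ) {g : G} (h : ∀ v, ρ g v = v) : g = 1 :=
  hρ (by rw [map_one]; exact LinearEquiv.ext h)

/-- The stabilizer of a vector. -/
def stab (ρ : G →* (V ≃ₗ[ZMod q] V)) (v : V) : Subgroup G where
  carrier := {g | ρ g v = v}
  one_mem' := oneρ v
  mul_mem' := fun {a b} ha hb => by
    show ρ (a * b) v = v
    rw [mulρ, show ρ b v = v from hb]; exact ha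
  inv_mem' := fun {a} ha => inv_apply ha

theorem mem_stab {v : V} {g : G} : g ∈ stab ρ v ↔ ρ g v = v := Iff.rfl

/-- The fixed space of an element. -/
def fix (ρ : G →* (V ≃ₗ[ZMod q] V)) (g : G) : Submodule (ZMod q) V :=
  LinearMap.eqLocus (ρ g : V →ₗ[ZMod q] V) LinearMap.id

theorem mem_fix {v : V} {g : G} : v ∈ fix ρ g ↔ ρ g v = v := Iff.rfl

/-- Invariant submodules are trivial. -/
def Irred (ρ : G →* (V ≃ₗ[ZMod q] V)) : Prop :=
  ∀ W : Submodule (ZMod q) V, (∀ g : G, ∀ w ∈ W, ρ g w ∈ W) → W = ⊥ ∨ W = ⊤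

/-- All nonzero vectors have stabilizers of equal order. -/
def HT (ρ : G →* (V ≃ₗ[ZMod q] V)) : Prop :=
  ∀ v w : V, v ≠ 0 → w ≠ 0 → Nat.card (stab ρ v) = Nat.card (stab ρ w)

/-- No nontrivial element fixes a nonzero vector. -/
def Fpf (ρ : G →* (V ≃ₗ[ZMod q] V)) : Prop :=
  ∀ v : V, v ≠ 0 → ∀ g : G, ρ g v = v → g = 1

theorem card_orbit [Finite G] [Finite V] (v : V) :
    Nat.card {u : V | ∃ g : G, ρ g v = u} * Nat.card (stab ρ v) = Nat.card G := by
  letI : MulAction G V :=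
    { smul := fun g v => ρ g v
      one_smul := oneρ
      mul_smul := fun a b v => mulρ a b v }
  have h1 : {u : V | ∃ g : G, ρ g v = u} = MulAction.orbit G v := rfl
  have h2 : stab ρ v = MulAction.stabilizer G v := by
    ext g; exact Iff.rfl
  rw [h1, h2, ← Nat.card_prod]
  exact Nat.card_congr (MulAction.orbitProdStabilizerEquivGroup G v)

theorem ht_of_orbits [Finite G] [Finite V]
    (h : ∀ v w : V, v ≠ 0 → w ≠ 0 →
      Nat.card {u : V | ∃ g : G, ρ g v = u} = Nat.card {u : V | ∃ g : G, ρ g w = u}) : HT ρ := by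
  intro v w hv hw
  have h1 := card_orbit (ρ := ρ) v
  have h2 := card_orbit (ρ := ρ) w
  rw [← h v w hv hw, ← h1] at h2
  exact (Nat.eq_of_mul_eq_mul_left (Nat.pos_of_mul_pos_right (h1 ▸ Nat.card_pos)) h2).symm

theorem fpf_of_card_one [Finite G] (hT : HT ρ) {v : V} (hv : v ≠ 0) (h : stab ρ v = ⊥) : Fpf ρ := by
  intro w hw g hg
  have h1 : stab ρ w = ⊥ := Subgroup.eq_bot_of_card_eq _ (by
    rw [hT w v hw hv, h, Subgroup.card_bot])
  exact (Subgroup.eq_bot_iff_forall _).1 h1 g hg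

/-- If the characteristic is `p`, the group is trivial. -/
theorem subsingleton_of_char {p : ℕ} [Fact p.Prime] [Finite G] [Finite V] [Nontrivial V]
    (hG : IsPGroup p G) (hρ : Function.Injective ρ) (hT : HT ρ) (hqp : q = p) : Subsingleton G := by
  subst hqp
  letI : MulAction G V :=
    { smul := fun g v => ρ g v
      one_smul := oneρ
      mul_smul := fun a b v => mulρ a b v }
  have hdvd : q ∣ Nat.card V := by
    obtain ⟨v, hv⟩ := exists_ne (0 : V)
    have h1 : addOrderOf v = q := by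
      refine addOrderOf_eq_prime ?_ hv
      rw [← Nat.cast_smul_eq_nsmul (ZMod q), ZMod.natCast_self, zero_smul]
    exact h1 ▸ addOrderOf_dvd_natCard v
  obtain ⟨v, hv, hv0⟩ :=
    hG.exists_fixed_point_of_prime_dvd_card_of_fixed_point V hdvd (a := 0) (fun g => map_zero _)
  have h1 : stab ρ v = ⊤ := (Subgroup.eq_top_iff' _).2 fun g => hv g
  refine subsingleton_of_forall_eq 1 fun g => eq_one_of_forall hρ fun w => ?_
  rcases eq_or_ne w 0 with rfl | hw
  · exact map_zero _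
  · have h2 : stab ρ w = ⊤ := Subgroup.eq_top_of_card_eq _ (by
      rw [hT w v hw (Ne.symm hv0), h1, Subgroup.card_top])
    exact (h2.ge (Subgroup.mem_top g) : g ∈ stab ρ w)

variable {p : ℕ} [hp : Fact p.Prime]

theorem natCast_ne_zero (hqp : q ≠ p) (n : ℕ) : ((p ^ n : ℕ) : ZMod q) ≠ 0 := by
  rw [Ne, ZMod.natCast_eq_zero_iff]
  intro h
  exact hqp ((Nat.prime_dvd_prime_iff_eq Fact.out hp.out).1 ((Fact.out : q.Prime).dvd_of_dvd_pow h))

/-- Maschke: a half-transitive group is irreducible or fixed point free. -/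
theorem irred_or_fpf [Finite G] [Finite V] (hG : IsPGroup p G) (hρ : Function.Injective ρ)
    (hqp : q ≠ p) (hT : HT ρ) : Irred ρ ∨ Fpf ρ := by
  classical
  refine or_iff_not_imp_left.2 fun hni => ?_
  simp only [Irred, not_forall, not_or] at hni
  obtain ⟨W, hW, hWb, hWt⟩ := hni
  haveI := Fintype.ofFinite G
  obtain ⟨U, hU⟩ := W.exists_isCompl
  let π : V →ₗ[ZMod q] V := W.subtype ∘ₗ W.projectionOnto U hU
  have hπmem : ∀ v, π v ∈ W := fun v => SetLike.coe_mem _
  have hπid : ∀ w ∈ W, π w = w := fun w hw =>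
    congrArg Subtype.val (Submodule.projectionOnto_apply_left hU ⟨w, hw⟩)
  let P : V →ₗ[ZMod q] V :=
    ∑ g : G, (ρ g : V →ₗ[ZMod q] V) ∘ₗ π ∘ₗ (ρ g⁻¹ : V →ₗ[ZMod q] V)
  have hP : ∀ v, P v = ∑ g : G, ρ g (π (ρ g⁻¹ v)) := fun v => by simp [P, LinearMap.sum_apply]
  have hPmem : ∀ v, P v ∈ W := fun v => by
    rw [hP]; exact Submodule.sum_mem _ fun g _ => hW g _ (hπmem _)
  have hPid : ∀ w ∈ W, P w = (Fintype.card G : ZMod q) • w := fun w hw => by
    rw [hP, Nat.cast_smul_eq_nsmul, ← Finset.card_univ, ← Finset.sum_const]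
    refine Finset.sum_congr rfl fun g _ => ?_
    rw [hπid _ (hW _ _ hw), ← mulρ, mul_inv_cancel, oneρ]
  have hPeq : ∀ h v, P (ρ h v) = ρ h (P v) := fun h v => by
    rw [hP, hP, map_sum]
    refine Fintype.sum_equiv (Equiv.mulLeft h⁻¹) _ _ fun g => ?_
    rw [Equiv.coe_mulLeft, ← mulρ h (h⁻¹ * g), mul_inv_cancel_left, ← mulρ, mul_inv_rev, inv_inv]
  have hc : (Fintype.card G : ZMod q) ≠ 0 := by
    obtain ⟨n, hn⟩ := IsPGroup.iff_card.1 hG
    rw [← Nat.card_eq_fintype_card, hn]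
    exact natCast_ne_zero hqp n
  let K : Submodule (ZMod q) V := LinearMap.ker P
  have hdec : ∀ v, ∃ w ∈ W, ∃ k ∈ K, v = w + k := fun v => by
    refine ⟨(Fintype.card G : ZMod q)⁻¹ • P v, W.smul_mem _ (hPmem v),
      v - (Fintype.card G : ZMod q)⁻¹ • P v, ?_, by abel⟩
    show P _ = 0
    rw [map_sub, map_smul, hPid _ (hPmem v), inv_smul_smul₀ hc, sub_self]
  have hdis : ∀ w ∈ W, w ∈ K → w = 0 := fun w hw hk => by
    have h1 : (Fintype.card G : ZMod q) • w = 0 := (hPid w hw).symm.trans hk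
    exact (smul_eq_zero.1 h1).resolve_left hc
  have hK : ∀ g, ∀ k ∈ K, ρ g k ∈ K := fun g k hk => by
    show P _ = 0
    rw [hPeq, show P k = 0 from hk, map_zero]
  obtain ⟨v1, hv1, hv10⟩ := W.exists_mem_ne_zero_of_ne_bot hWb
  have hKne : ∃ k ∈ K, k ≠ 0 := by
    by_contra hall
    push Not at hall
    refine hWt (eq_top_iff.2 fun v _ => ?_)
    obtain ⟨w, hw, k, hk, rfl⟩ := hdec v
    rw [hall k hk, add_zero]; exact hw
  obtain ⟨v2, hv2, hv20⟩ := hKne
  have key : ∀ a ∈ W, ∀ b ∈ K, a ≠ 0 → b ≠ 0 → stab ρ a = stab ρ b := by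
    intro a ha b hb ha0 hb0
    have h0 : a + b ≠ 0 := fun e => hb0 (hdis b (by
      rw [eq_neg_of_add_eq_zero_right e]; exact W.neg_mem ha) hb)
    have h1 : ∀ g, g ∈ stab ρ (a + b) → ρ g a = a ∧ ρ g b = b := fun g hg => by
      have e : ρ g a - a = b - ρ g b := by
        have := (map_add (ρ g) a b).symm.trans hg
        linear_combination (norm := abel) this
      have h2 : ρ g a - a = 0 := hdis _ (W.sub_mem (hW g a ha) ha) (e ▸ K.sub_mem hb (hK g b hb))
      exact ⟨sub_eq_zero.1 h2, (sub_eq_zero.1 (e.symm.trans h2)).symm⟩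
    have h3 : stab ρ (a + b) = stab ρ a :=
      Subgroup.eq_of_le_of_card_ge (fun g hg => (h1 g hg).1) (hT a (a + b) ha0 h0).le
    have h4 : stab ρ (a + b) = stab ρ b :=
      Subgroup.eq_of_le_of_card_ge (fun g hg => (h1 g hg).2) (hT b (a + b) hb0 h0).le
    rw [← h3, h4]
  refine fpf_of_card_one hT hv10 ((Subgroup.eq_bot_iff_forall _).2 fun g hg => eq_one_of_forall hρ fun v => ?_)
  obtain ⟨w, hw, k, hk, rfl⟩ := hdec v
  have hgk : ρ g k = k := by
    rcases eq_or_ne k 0 with rfl | hk0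
    · exact map_zero _
    · exact (key v1 hv1 k hk hv10 hk0).le hg
  have hgw : ρ g w = w := by
    rcases eq_or_ne w 0 with rfl | hw0
    · exact map_zero _
    · exact ((key v1 hv1 v2 hv2 hv10 hv20).trans (key w hw v2 hv2 hw0 hv20).symm).le hg
  rw [map_add, hgw, hgk]

/-- A fixed point free group has a unique subgroup of order `p`. -/
theorem unique_of_fpf [Finite G] [Nontrivial V] (hG : IsPGroup p G) (hqp : q ≠ p) (hf : Fpf ρ) :
    CfsgLib.Coprime.UniqueOrderP p G := by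
  rcases subsingleton_or_nontrivial G with h | h
  · intro x y _ _ _; rw [Subsingleton.elim y x]; exact mem_zpowers x
  haveI := hG.center_nontrivial
  obtain ⟨z0, hz0⟩ := exists_ne (1 : center G)
  obtain ⟨k, hk⟩ := hG.to_subgroup (center G) z0
  obtain ⟨z, hzc, hzo⟩ : ∃ z : G, z ∈ center G ∧ orderOf z = p := by
    obtain ⟨n, hn⟩ := IsPGroup.iff_card.1 (hG.to_subgroup (center G))
    have hn0 : n ≠ 0 := by
      rintro rfl
      exact absurd (Nat.card_eq_one_iff_unique.1 (hn.trans (pow_zero p))).1 (not_subsingleton _)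
    obtain ⟨z, hz⟩ := exists_prime_orderOf_dvd_card' (G := center G) p (hn ▸ dvd_pow_self p hn0)
    exact ⟨z, z.2, by rwa [Subgroup.orderOf_coe]⟩
  have key : ∀ x : G, x ^ p = 1 → x ∈ zpowers z := by
    intro x hx
    by_contra hxz
    obtain ⟨v, hv⟩ := exists_ne (0 : V)
    have hzp : z ^ p = 1 := by rw [← hzo, pow_orderOf_eq_one]
    have hN : ∀ g : G, g ^ p = 1 → g ≠ 1 → ∀ w, (∑ k ∈ Finset.range p, ρ (g ^ k) w) = 0 := by
      intro g hg hg1 w
      by_contra hne
      refine hg1 (hf _ hne g ?_)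
      have h1 : ∑ k ∈ Finset.range p, ρ (g ^ (k + 1)) w = ∑ k ∈ Finset.range p, ρ (g ^ k) w := by
        refine add_right_cancel (b := ρ (g ^ 0) w) ?_
        rw [← Finset.sum_range_succ' (fun k => ρ (g ^ k) w), Finset.sum_range_succ, hg, pow_zero]
      rw [map_sum, ← h1]
      exact Finset.sum_congr rfl fun k _ => by rw [pow_succ', mulρ]
    have hxa : ∀ a : ℕ, (x * z ^ a) ^ p = 1 ∧ x * z ^ a ≠ 1 := fun a => by
      refine ⟨?_, fun e => hxz ?_⟩
      · rw [(show Commute x (z ^ a) from (mem_center_iff.1 (pow_mem hzc a) x)).mul_pow, hx, one_mul,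
          ← pow_mul, mul_comm, pow_mul, hzp, one_pow]
      · rw [eq_inv_of_mul_eq_one_left e]; exact inv_mem (pow_mem (mem_zpowers z) a)
    have hz1 : z ≠ 1 := fun e => by rw [e, orderOf_one] at hzo; exact hp.out.ne_one hzo.symm
    have h0 : (∑ a ∈ Finset.range p, ∑ k ∈ Finset.range p, ρ ((x * z ^ a) ^ k) v) = 0 :=
      Finset.sum_eq_zero fun a _ => hN _ (hxa a).1 (hxa a).2 v
    rw [Finset.sum_comm, Finset.sum_eq_single 0] at h0
    · simp only [pow_zero, oneρ, Finset.sum_const, Finset.card_range] at h0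
      rw [← Nat.cast_smul_eq_nsmul (ZMod q)] at h0
      refine hv ((smul_eq_zero.1 h0).resolve_left ?_)
      simpa using natCast_ne_zero (q := q) hqp 1
    · intro k hk hk0
      rw [Finset.mem_range] at hk
      have e : ∀ a : ℕ, ρ ((x * z ^ a) ^ k) v = ρ (x ^ k) (ρ ((z ^ k) ^ a) v) := fun a => by
        rw [(show Commute x (z ^ a) from (mem_center_iff.1 (pow_mem hzc a) x)).mul_pow, ← pow_mul,
          mul_comm a k, pow_mul, mulρ]
      simp only [e]
      rw [← map_sum, hN (z ^ k) (by rw [← pow_mul, mul_comm, pow_mul, hzp, one_pow]) ?_ v, map_zero]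
      exact pow_ne_one_of_lt_orderOf hk0 (hzo ▸ hk)
    · exact fun hh => absurd (Finset.mem_range.2 hp.out.pos) hh
  intro x y hx hy hx1
  have e : zpowers x = zpowers z := Subgroup.eq_of_le_of_card_ge (zpowers_le.2 (key x hx))
    (by rw [Nat.card_zpowers, Nat.card_zpowers, hzo, orderOf_eq_prime hx hx1])
  rw [e]; exact key y hy

/-- A fixed point free group is cyclic or generalized quaternion. -/
theorem cyclic_or_quaternion_of_fpf [Finite G] [Nontrivial V] (hG : IsPGroup p G) (hqp : q ≠ p)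
    (hf : Fpf ρ) : IsCyclic G ∨ ∃ n : ℕ, Nonempty (G ≃* QuaternionGroup n) := by
  rcases CfsgLib.Coprime.cyclic_or_quaternion_of_unique hG (unique_of_fpf hG hqp hf) with h | ⟨-, n, h⟩
  · exact Or.inl h
  · exact Or.inr ⟨_, h⟩

/-- An irreducible group with a unique subgroup of order `p` is fixed point free. -/
theorem fpf_of_unique [Finite G] (hG : IsPGroup p G) (hρ : Function.Injective ρ) (hirr : Irred ρ)
    (hu : CfsgLib.Coprime.UniqueOrderP p G) : Fpf ρ := by
  intro v hv g hg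
  by_contra hg1
  obtain ⟨n, hn⟩ := IsPGroup.iff_card.1 (hG.to_subgroup (zpowers g))
  have hn0 : n ≠ 0 := by
    rintro rfl
    rw [pow_zero, Nat.card_zpowers, orderOf_eq_one_iff] at hn
    exact hg1 hn
  obtain ⟨y, hy⟩ := exists_prime_orderOf_dvd_card' (G := zpowers g) p (hn ▸ dvd_pow_self p hn0)
  obtain ⟨i, hi⟩ := mem_zpowers_iff.1 y.2
  have hyv : ρ (y : G) v = v := by rw [← hi]; exact zpow_apply hg i
  have hy' : orderOf (y : G) = p := by rwa [Subgroup.orderOf_coe]
  have hy1 : (y : G) ≠ 1 := fun e => by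
    rw [e, orderOf_one] at hy'; exact hp.out.ne_one hy'.symm
  have hyp : (y : G) ^ p = 1 := by rw [← hy', pow_orderOf_eq_one]
  rcases hirr (fix ρ (y : G)) (fun a w hw => by
    have h1 : a⁻¹ * y * a ∈ zpowers (y : G) := hu y _ hyp (by
      rw [show a⁻¹ * (y : G) * a = a⁻¹ * y * a⁻¹⁻¹ by rw [inv_inv], conj_pow, hyp, mul_one,
        mul_inv_cancel]) hy1
    obtain ⟨j, hj⟩ := mem_zpowers_iff.1 h1
    show ρ (y : G) (ρ a w) = ρ a w
    rw [← mulρ, show (y : G) * a = a * (a⁻¹ * y * a) by group, ← hj, mulρ, zpow_apply hw j]) with e | e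
  · exact hv ((Submodule.mem_bot (ZMod q)).1 (e ▸ hyv))
  · exact hy1 (eq_one_of_forall hρ fun w => (e.ge Submodule.mem_top : w ∈ fix ρ (y : G)))

theorem sub_one_pow_congr (x : ℤ) (n : ℕ) : x ^ 2 ∣ (x - 1) ^ n - (-1) ^ n * (1 - n * x) := by
  induction n with
  | zero => simp
  | succ n ih =>
    have e : (x - 1) ^ (n + 1) - (-1) ^ (n + 1) * (1 - ((n + 1 : ℕ) : ℤ) * x) =
        (x - 1) * ((x - 1) ^ n - (-1) ^ n * (1 - n * x)) + x ^ 2 * (-1) ^ n * (-(n : ℤ)) := by
      push_cast; ring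
    rw [e]
    exact dvd_add (ih.mul_left _) (Dvd.intro _ (mul_assoc _ _ _).symm)

/-- `q ^ f + 1` is a power of two only for `f = 1`. -/
theorem exp_one_of_add_one {f m : ℕ} (hq : Odd q) (hf : 1 ≤ f) (h : q ^ f + 1 = 2 ^ m) : f = 1 := by
  have hq3 : 3 ≤ q := by
    have := (Fact.out : q.Prime).two_le
    rcases hq with ⟨t, ht⟩
    omega
  rcases Nat.even_or_odd f with ⟨t, ht⟩ | hfo
  · exfalso
    obtain ⟨u, hu⟩ := (hq.pow (n := t))
    have e : q ^ f + 1 = 4 * (u * u + u) + 2 := by rw [ht, pow_add, hu]; ring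
    have h4 : 4 ≤ q ^ f + 1 := by
      have := Nat.le_self_pow (by omega : f ≠ 0) q
      omega
    obtain ⟨j, rfl⟩ : ∃ j, m = j + 2 := ⟨m - 2, by
      rcases m with _ | _ | m <;> simp_all⟩
    rw [e, pow_add] at h
    omega
  · obtain ⟨s, hs, hsq⟩ := (Nat.dvd_prime_pow Nat.prime_two).1
      (h ▸ (by simpa using hfo.nat_add_dvd_pow_add_pow q 1) : q + 1 ∣ 2 ^ m)
    have hms : m ≤ s := by
      by_contra hlt
      have h1 := sub_one_pow_congr ((2 : ℤ) ^ s) f
      have hqs : ((2 : ℤ) ^ s - 1) = (q : ℤ) := by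
        have : ((q + 1 : ℕ) : ℤ) = ((2 ^ s : ℕ) : ℤ) := by rw [hsq]
        push_cast at this; linarith
      have h' : (q : ℤ) ^ f + 1 = 2 ^ m := by exact_mod_cast h
      rw [hqs, hfo.neg_one_pow] at h1
      have h2 : (2 : ℤ) ^ (s + 1) ∣ (2 : ℤ) ^ m := pow_dvd_pow _ (by omega)
      have hs1 : 1 ≤ s := by
        rcases s with _ | s
        · omega
        · omega
      have h3 : (2 : ℤ) ^ (s + 1) ∣ ((2 : ℤ) ^ s) ^ 2 := by
        rw [← pow_mul]; exact pow_dvd_pow _ (by omega)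
      have h4 : (2 : ℤ) ^ (s + 1) ∣ (f : ℤ) * 2 ^ s := by
        have := dvd_sub h2 (h3.trans h1)
        rwa [← h', show (q : ℤ) ^ f + 1 - ((q : ℤ) ^ f - -1 * (1 - (f : ℤ) * 2 ^ s))
          = (f : ℤ) * 2 ^ s by ring] at this
      rw [pow_succ, mul_comm (f : ℤ)] at h4
      have h5 := Int.dvd_of_mul_dvd_mul_left (by positivity) h4
      rcases hfo with ⟨t, rfl⟩
      push_cast at h5
      omega
    have hms' : m = s := le_antisymm hms hs
    subst hms'
    have : q ^ f = q := by omega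
    exact Nat.pow_right_injective (by omega : 2 ≤ q) (by simpa using this : q ^ f = q ^ 1)

/-- `q ^ d - 1` is a power of two only for `d = 1` or `q ^ d = 9`. -/
theorem exp_one_of_sub_one {d k : ℕ} (hq : Odd q) (hd : 1 ≤ d) (h : q ^ d = 2 ^ k + 1) :
    d = 1 ∨ (q = 3 ∧ d = 2) := by
  have hq3 : 3 ≤ q := by
    have := (Fact.out : q.Prime).two_le
    rcases hq with ⟨t, ht⟩
    omega
  rcases Nat.even_or_odd d with ⟨t, ht⟩ | hdo
  · right
    have e : (q ^ t - 1) * (q ^ t + 1) = 2 ^ k := by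
      have h1 : 1 ≤ q ^ t := Nat.one_le_pow _ _ (by omega)
      obtain ⟨u, hu⟩ := Nat.exists_eq_add_of_le h1
      rw [ht, pow_add, hu] at h
      rw [hu, Nat.add_sub_cancel_left]
      have : (1 + u) * (1 + u) = u * (1 + u + 1) + 1 := by ring
      omega
    obtain ⟨i, -, hi⟩ := (Nat.dvd_prime_pow Nat.prime_two).1 (Dvd.intro _ e)
    obtain ⟨j, -, hj⟩ := (Nat.dvd_prime_pow Nat.prime_two).1 (Dvd.intro_left _ e)
    have h3 : 3 ≤ q ^ t := le_trans hq3 (Nat.le_self_pow (by omega) q)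
    rcases i with _ | _ | i
    · omega
    · have h4 : q ^ t = 3 := by omega
      have h5 : q = 3 := (Nat.prime_dvd_prime_iff_eq Fact.out Nat.prime_three).1
        (h4 ▸ dvd_pow_self q (by omega : t ≠ 0))
      subst h5
      have : t = 1 := Nat.pow_right_injective (le_refl 2 |>.trans (by norm_num)) (by simpa using h4 : 3 ^ t = 3 ^ 1)
      exact ⟨rfl, by omega⟩
    · exfalso
      rcases j with _ | _ | j
      · omega
      · omega
      · rw [pow_succ, pow_succ] at hi hj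
        omega
  · left
    obtain ⟨i, hi1, hi⟩ := (Nat.dvd_prime_pow Nat.prime_two).1
      ((by
        have := Nat.sub_dvd_pow_sub_pow q 1 d
        rw [one_pow, h, Nat.add_sub_cancel] at this
        exact this) : q - 1 ∣ 2 ^ k)
    by_contra hd1
    have hgeom : (∑ j ∈ Finset.range d, q ^ j) * (q - 1) + 1 = q ^ d := by
      have := geom_sum_mul_add (q - 1) d
      rwa [Nat.sub_add_cancel (by omega : 1 ≤ q)] at this
    obtain ⟨l, -, hl⟩ := (Nat.dvd_prime_pow Nat.prime_two).1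
      (Dvd.intro (q - 1) (show (∑ j ∈ Finset.range d, q ^ j) * (q - 1) = 2 ^ k by omega))
    have hodd : Odd (∑ j ∈ Finset.range d, q ^ j) := by
      rw [Finset.odd_sum_iff_odd_card_odd, Finset.filter_true_of_mem fun j _ => hq.pow, Finset.card_range]
      exact hdo
    rcases l with _ | l
    · have h6 : ∑ j ∈ Finset.range 2, q ^ j ≤ ∑ j ∈ Finset.range d, q ^ j :=
        Finset.sum_le_sum_of_subset (Finset.range_subset_range.2 (by omega))
      simp [Finset.sum_range_succ] at h6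
      omega
    · rw [hl, Nat.odd_pow_iff (Nat.succ_ne_zero l)] at hodd
      exact absurd hodd (by decide)

end CfsgLib.Char.HalfLinear
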