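/-
Half-transitive linear groups of dihedral or semidihedral type.
-/
import Cfsg.Agent.Lib.Char.HalfLinear.Basic
import Cfsg.Agent.Lib.Invol.MaxClassTwo
import Cfsg.Prelude.Def_CaseTheorems
import Mathlib.LinearAlgebra.FreeModule.Finite.Basic
import Mathlib.Tactic

set_option autoImplicit false

namespace CfsgLib.Char.HalfLinear

open Subgroup CfsgLib.Invol

variable {q : ℕ} [Fact q.Prime] {V : Type*} [AddCommGroup V] [Module (ZMod q) V] {G : Type*} [Group G]
  {ρ : G →* (V ≃ₗ[ZMod q] V)}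

theorem card_module [Finite V] : ∃ d, Nat.card V = q ^ d :=
  ⟨_, by rw [Module.natCard_eq_pow_finrank (K := ZMod q), Nat.card_zmod]⟩

theorem odd_prime_of_ne_two (hq2 : q ≠ 2) : Odd q := (Fact.out : q.Prime).odd_of_ne_two hq2

theorem two_ne_zero' (hq2 : q ≠ 2) : (2 : ZMod q) ≠ 0 := by
  intro h
  have h' : ((2 : ℕ) : ZMod q) = 0 := by exact_mod_cast h
  rw [ZMod.natCast_eq_zero_iff, Nat.prime_dvd_prime_iff_eq Fact.out Nat.prime_two] at h'
  exact hq2 h'

/-- An involution splits the space into its two eigenspaces. -/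
theorem card_eigen [Finite V] (hq2 : q ≠ 2) (x : V ≃ₗ[ZMod q] V) (hx : ∀ v, x (x v) = v) :
    Nat.card V = Nat.card {v : V // x v = v} * Nat.card {v : V // x v = -v} := by
  have h2 := two_ne_zero' hq2
  rw [← Nat.card_prod]
  refine Nat.card_congr
    { toFun := fun v => (⟨(2 : ZMod q)⁻¹ • (v + x v), by rw [map_smul, map_add, hx, add_comm]⟩,
        ⟨(2 : ZMod q)⁻¹ • (v - x v), by rw [map_smul, map_sub, hx, ← smul_neg, neg_sub]⟩)
      invFun := fun w => w.1.1 + w.2.1
      left_inv := fun v => by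
        show (2 : ZMod q)⁻¹ • (v + x v) + (2 : ZMod q)⁻¹ • (v - x v) = v
        rw [← smul_add, add_add_sub_cancel, ← two_smul (ZMod q) v, inv_smul_smul₀ h2]
      right_inv := fun w => by
        have h : x (w.1.1 + w.2.1) = w.1.1 - w.2.1 := by
          rw [map_add, w.1.2, w.2.2, sub_eq_add_neg]
        refine Prod.ext (Subtype.ext ?_) (Subtype.ext ?_)
        · show (2 : ZMod q)⁻¹ • (w.1.1 + w.2.1 + x (w.1.1 + w.2.1)) = w.1.1
          rw [h, add_add_sub_cancel, ← two_smul (ZMod q), inv_smul_smul₀ h2]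
        · show (2 : ZMod q)⁻¹ • (w.1.1 + w.2.1 - x (w.1.1 + w.2.1)) = w.2.1
          rw [h, add_sub_sub_cancel, ← two_smul (ZMod q), inv_smul_smul₀ h2] }

theorem frame_case [Finite G] [Finite V] [Nontrivial V] (hρ : Function.Injective ρ) (hT : HT ρ)
    (hirr : Irred ρ) (hq2 : q ≠ 2) {k : ℕ} {r : ℤ} {a b : G} (F : CyclicFrame (2 ^ k) r 0 a b)
    (hr : (2 ≤ k ∧ r = -1) ∨ (3 ≤ k ∧ r = 2 ^ (k - 1) - 1)) (hnf : ¬ Fpf ρ) :
    Nat.card V = q ^ 2 ∧ ∃ m : ℕ, q = 2 ^ m - 1 ∧ (Nonempty (G ≃* DihedralGroup (2 ^ m)) ∨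
      (Cfsg.IsQuasiDihedral G ∧ Nat.card G = 2 ^ (m + 2))) := by
  classical
  haveI := Fintype.ofFinite G
  haveI := Fintype.ofFinite V
  obtain ⟨j, rfl⟩ : ∃ j, k = j + 2 := ⟨k - 2, by omega⟩
  have hsub : j + 2 - 1 = j + 1 := rfl
  set z : G := a ^ (2 ^ (j + 1) : ℤ) with hz
  have hzz : z * z = 1 := by
    rw [hz, ← zpow_add, F.zpow_eq_one_iff]
    exact ⟨1, by push_cast; ring⟩
  have hz1 : z ≠ 1 := by
    rw [hz, Ne, F.zpow_eq_one_iff]
    push_cast
    intro h
    have := Int.le_of_dvd (by positivity) h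
    have h' : (0 : ℤ) < 2 ^ (j + 1) := by positivity
    rw [show j + 2 = (j + 1) + 1 from rfl, pow_succ] at this
    omega
  have hbz : b * z = z * b := by
    rw [hz, F.b_mul_zpow]
    refine congrArg (· * b) (F.zpow_eq_iff.2 ?_)
    rw [ZMod.intCast_eq_intCast_iff_dvd_sub]
    push_cast
    rcases hr with ⟨-, rfl⟩ | ⟨hk, rfl⟩
    · exact ⟨1, by ring⟩
    · rw [hsub]
      obtain ⟨i, rfl⟩ : ∃ i, j = i + 1 := ⟨j - 1, by omega⟩
      exact ⟨1 - 2 ^ (i + 1), by ring⟩
  have hzc : ∀ g : G, g * z = z * g := fun g => by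
    obtain ⟨i, rfl | rfl⟩ := F.exists_eq g
    · rw [hz, ← zpow_add, ← zpow_add, add_comm]
    · rw [mul_assoc, hbz, ← mul_assoc, hz, ← zpow_add, add_comm, zpow_add, mul_assoc]
  have hzneg : ∀ v, ρ z v = -v := by
    have hb : fix ρ z = ⊥ := by
      refine (hirr _ fun g w hw => ?_).resolve_right fun e => hz1 (eq_one_of_forall hρ fun w =>
        (e.ge Submodule.mem_top : w ∈ fix ρ z))
      show ρ z (ρ g w) = ρ g w
      rw [← mulρ, ← hzc, mulρ, show ρ z w = w from hw]
    intro v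
    have h1 : ρ z v + v ∈ fix ρ z := by
      show ρ z (ρ z v + v) = ρ z v + v
      rw [map_add, ← mulρ, hzz, oneρ, add_comm]
    rw [hb, Submodule.mem_bot] at h1
    exact eq_neg_of_add_eq_zero_left h1
  have hzfix : ∀ v, ρ z v = v → v = 0 := fun v hv => by
    rw [hzneg, neg_eq_iff_add_eq_zero, ← two_smul (ZMod q), smul_eq_zero] at hv
    exact hv.resolve_left (two_ne_zero' hq2)
  have hfpfa : ∀ g ∈ zpowers a, ∀ v, v ≠ 0 → ρ g v = v → g = 1 := by
    intro g hg v hv hgv
    obtain ⟨i, rfl⟩ := mem_zpowers_iff.1 hg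
    by_contra hne
    obtain ⟨n, hn⟩ := IsPGroup.iff_card.1 ((IsPGroup.of_card (G := zpowers a) (p := 2) (n := j + 2)
      (by rw [Nat.card_zpowers, F.ord])).to_le (zpowers_le.2 (zpow_mem (mem_zpowers a) i)))
    have hn0 : n ≠ 0 := by
      rintro rfl
      rw [pow_zero, Nat.card_zpowers, orderOf_eq_one_iff] at hn
      exact hne hn
    haveI : Fact (Nat.Prime 2) := ⟨Nat.prime_two⟩
    obtain ⟨y, hy⟩ := exists_prime_orderOf_dvd_card' (G := zpowers (a ^ i)) 2 (hn ▸ dvd_pow_self 2 hn0)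
    obtain ⟨l, hl⟩ := mem_zpowers_iff.1 y.2
    have hy' : orderOf (y : G) = 2 := by rwa [Subgroup.orderOf_coe]
    rw [← hl, ← zpow_mul] at hy'
    have hz' : a ^ (i * l) = z := by
      have h2 : a ^ (i * l * 2) = 1 := by
        rw [zpow_mul, zpow_ofNat, ← hy', pow_orderOf_eq_one]
      rw [F.zpow_eq_one_iff] at h2
      push_cast at h2
      obtain ⟨t, ht⟩ := h2
      have hil : i * l = 2 ^ (j + 1) * t := by
        rw [pow_succ, show (2 : ℤ) ^ (j + 1) * 2 * t = 2 ^ (j + 1) * t * 2 by ring] at ht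
        omega
      rcases Int.even_or_odd' t with ⟨u, rfl | rfl⟩
      · exfalso
        have : a ^ (i * l) = 1 := by
          rw [F.zpow_eq_one_iff]; exact ⟨u, by rw [hil]; push_cast; ring⟩
        rw [this, orderOf_one] at hy'
        omega
      · rw [hz, F.zpow_eq_iff, hil, ZMod.intCast_eq_intCast_iff_dvd_sub]
        exact ⟨-u, by push_cast; ring⟩
    exact hv (hzfix v (by rw [← hz', zpow_mul]; exact zpow_apply hgv l))
  -- every nonzero vector is fixed by exactly one reflection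
  set R : Finset G := Finset.univ.filter fun x => x * x = 1 ∧ x ∉ zpowers a with hR
  have huniq : ∀ v, v ≠ 0 → ∀ x ∈ stab ρ v, ∀ y ∈ stab ρ v, x ≠ 1 → y ≠ 1 → x = y := by
    intro v hv x hx y hy hx1 hy1
    have hxa : x ∉ zpowers a := fun h => hx1 (hfpfa x h v hv hx)
    have hya : y ∉ zpowers a := fun h => hy1 (hfpfa y h v hv hy)
    have h : x⁻¹ * y ∈ zpowers a := by
      rw [Subgroup.mul_mem_iff_of_index_two F.index_two, inv_mem_iff]
      exact iff_of_false hxa hya
    exact inv_mul_eq_one.1 (hfpfa _ h v hv ((stab ρ v).mul_mem ((stab ρ v).inv_mem hx) hy))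
  have hex : ∀ v, v ≠ 0 → ∃ x ∈ R, ρ x v = v := by
    intro v hv
    have hne : stab ρ v ≠ ⊥ := fun e => hnf (fpf_of_card_one hT hv e)
    obtain ⟨x, hx, hx1⟩ := (Subgroup.bot_or_exists_ne_one _).resolve_left hne
    refine ⟨x, Finset.mem_filter.2 ⟨Finset.mem_univ _, ?_, fun h => hx1 (hfpfa x h v hv hx)⟩, hx⟩
    have h : x * x ∈ zpowers a := by rw [Subgroup.mul_mem_iff_of_index_two F.index_two]
    exact hfpfa _ h v hv ((stab ρ v).mul_mem hx hx)
  have hsame : ∀ x ∈ R, Nat.card {v : V // ρ x v = v} ^ 2 = Nat.card V := by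
    intro x hx
    obtain ⟨-, hx2, hxa⟩ := Finset.mem_filter.1 hx
    have hxx : ∀ v, ρ x (ρ x v) = v := fun v => by rw [← mulρ, hx2, oneρ]
    obtain ⟨i, rfl | rfl⟩ := F.exists_eq x
    · exact absurd (zpow_mem (mem_zpowers a) i) hxa
    set g : G := a ^ ((2 ^ j : ℤ))
    have hg : g * (a ^ i * b) * g⁻¹ = z * (a ^ i * b) := by
      rw [F.rot_conj_ref, hz, CyclicFrame.rot_mul_ref, F.mul_b_eq_iff,
        ZMod.intCast_eq_intCast_iff_dvd_sub]
      push_cast
      rcases hr with ⟨-, rfl⟩ | ⟨hk, rfl⟩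
      · exact ⟨0, by ring⟩
      · rw [hsub]
        obtain ⟨l, rfl⟩ : ∃ l, j = l + 1 := ⟨j - 1, by omega⟩
        exact ⟨2 ^ l, by ring⟩
    rw [pow_two, card_eigen hq2 (ρ (a ^ i * b)) hxx]
    congr 1
    refine Nat.card_congr ((ρ g).toEquiv.subtypeEquiv fun v => ?_)
    show ρ (a ^ i * b) v = v ↔ ρ (a ^ i * b) (ρ g v) = -ρ g v
    have h1 : ρ (z * (a ^ i * b)) (ρ g v) = ρ g (ρ (a ^ i * b) v) := by
      rw [← hg, ← mulρ, inv_mul_cancel_right, mulρ]
    rw [mulρ, hzneg] at h1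
    constructor
    · intro h; rw [h] at h1; exact neg_eq_iff_eq_neg.1 h1
    · intro h; rw [h, neg_neg] at h1; exact (ρ g).injective h1.symm
  obtain ⟨d, hd⟩ := card_module (q := q) (V := V)
  obtain ⟨v0, hv0⟩ := exists_ne (0 : V)
  obtain ⟨x0, hx0, hx0v⟩ := hex v0 hv0
  obtain ⟨f, -, hf⟩ := (Nat.dvd_prime_pow (Fact.out : q.Prime)).1
    (show Nat.card {v : V // ρ x0 v = v} ∣ q ^ d by rw [← hd, ← hsame x0 hx0]; exact dvd_pow_self _ two_ne_zero)
  have hf1 : 1 ≤ f := by
    by_contra hc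
    have hf0 : f = 0 := by omega
    subst hf0
    rw [pow_zero] at hf
    haveI := (Nat.card_eq_one_iff_unique.1 hf).1
    exact hv0 (congrArg Subtype.val (Subsingleton.elim (⟨v0, hx0v⟩ : {v : V // ρ x0 v = v}) ⟨0, map_zero _⟩))
  have hV : Nat.card V = q ^ f * q ^ f := by rw [← hsame x0 hx0, hf, pow_two]
  have hF : ∀ x ∈ R, Nat.card {v : V // ρ x v = v} = q ^ f := fun x hx =>
    Nat.pow_left_injective two_ne_zero (by
      show _ ^ 2 = _ ^ 2
      rw [hsame x hx, hV, pow_two])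
  have hcount : Nat.card V - 1 = R.card * (q ^ f - 1) := by
    have e : (Finset.univ.filter fun v : V => v ≠ 0) =
        R.biUnion fun x => Finset.univ.filter fun v : V => ρ x v = v ∧ v ≠ 0 := by
      ext v
      simp only [Finset.mem_filter, Finset.mem_univ, true_and, Finset.mem_biUnion]
      exact ⟨fun hv => let ⟨x, h1, h2⟩ := hex v hv; ⟨x, h1, h2, hv⟩, fun ⟨_, _, _, h⟩ => h⟩
    have h1 : (Finset.univ.filter fun v : V => v ≠ 0).card = Nat.card V - 1 := by
      rw [Nat.card_eq_fintype_card, Finset.filter_ne', Finset.card_erase_of_mem (Finset.mem_univ _)]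
      rfl
    rw [← h1, e, Finset.card_biUnion, Finset.sum_const_nat]
    · intro x hx
      rw [show (Finset.univ.filter fun v : V => ρ x v = v ∧ v ≠ 0) =
        (Finset.univ.filter fun v : V => ρ x v = v).erase 0 by ext v; simp [and_comm],
        Finset.card_erase_of_mem (by simp), ← hF x hx, Nat.card_eq_fintype_card, Fintype.card_subtype]
    · intro x hx y hy hxy
      simp only [Function.onFun, Finset.disjoint_left, Finset.mem_filter, Finset.mem_univ, true_and]
      rintro v ⟨h1, hv⟩ ⟨h2, -⟩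
      exact hxy (huniq v hv x h1 y h2
        (fun e => (Finset.mem_filter.1 hx).2.2 (e ▸ one_mem _))
        (fun e => (Finset.mem_filter.1 hy).2.2 (e ▸ one_mem _)))
  have hM : q ^ f + 1 = R.card := by
    have hq2' : 2 ≤ q ^ f := le_trans (Fact.out : q.Prime).two_le (Nat.le_self_pow (by omega) q)
    obtain ⟨u, hu⟩ := Nat.exists_eq_add_of_le (show 1 ≤ q ^ f by omega)
    rw [hV, hu] at hcount
    rw [hu]
    have e : (1 + u) * (1 + u) - 1 = (1 + u + 1) * (1 + u - 1) := by
      rw [Nat.add_sub_cancel_left]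
      have : (1 + u) * (1 + u) = (1 + u + 1) * u + 1 := by ring
      omega
    exact Nat.eq_of_mul_eq_mul_right (by omega : 0 < 1 + u - 1) (e.symm.trans hcount)
  have hinj : ∀ {n : ℕ}, (n : ℤ) ≤ 2 ^ (j + 2) → ∀ s t : Fin n, ((s.val : ℤ) : ZMod (2 ^ (j + 2))) = ((t.val : ℤ) : ZMod (2 ^ (j + 2))) → s = t := by
    intro n hn s t h
    rw [Int.cast_natCast, Int.cast_natCast, ZMod.natCast_eq_natCast_iff, Nat.ModEq] at h
    have hn' : n ≤ 2 ^ (j + 2) := by exact_mod_cast hn
    rw [Nat.mod_eq_of_lt (lt_of_lt_of_le s.isLt hn'), Nat.mod_eq_of_lt (lt_of_lt_of_le t.isLt hn')] at h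
    exact Fin.ext h
  rcases hr with ⟨-, rfl⟩ | ⟨hk, hr⟩
  · have hcard : R.card = 2 ^ (j + 2) := by
      have e : R = (Finset.univ : Finset (Fin (2 ^ (j + 2)))).image fun s => a ^ (s.val : ℤ) * b := by
        ext x
        simp only [hR, Finset.mem_filter, Finset.mem_univ, true_and, Finset.mem_image]
        constructor
        · rintro ⟨-, hxa⟩
          obtain ⟨i, rfl | rfl⟩ := F.exists_eq x
          · exact absurd (zpow_mem (mem_zpowers a) i) hxa
          · refine ⟨⟨(i : ZMod (2 ^ (j + 2))).val, ZMod.val_lt _⟩, ?_⟩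
            rw [F.mul_b_eq_iff, Int.cast_natCast, ZMod.natCast_zmod_val]
        · rintro ⟨s, rfl⟩
          refine ⟨?_, fun h => ?_⟩
          · rw [← pow_two, F.ref_sq, F.zpow_eq_one_iff]; exact ⟨0, by ring⟩
          · obtain ⟨i, hi⟩ := mem_zpowers_iff.1 h
            exact F.zpow_ne_mul _ _ hi
      rw [e, Finset.card_image_of_injective, Finset.card_univ, Fintype.card_fin]
      intro s t h
      exact hinj (by push_cast; rfl) s t (F.mul_b_eq_iff.1 h)
    rw [hcard] at hM
    obtain rfl := exp_one_of_add_one (odd_prime_of_ne_two hq2) hf1 hM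
    rw [pow_one] at hM
    refine ⟨by rw [hV]; ring, j + 2, by omega, Or.inl F.dihedralEquiv⟩
  · subst hr
    have hcard : R.card = 2 ^ (j + 1) := by
      have e : R = (Finset.univ : Finset (Fin (2 ^ (j + 1)))).image fun s => a ^ (2 * (s.val : ℤ)) * b := by
        ext x
        simp only [hR, Finset.mem_filter, Finset.mem_univ, true_and, Finset.mem_image]
        constructor
        · rintro ⟨hx2, hxa⟩
          obtain ⟨i, rfl | rfl⟩ := F.exists_eq x
          · exact absurd (zpow_mem (mem_zpowers a) i) hxa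
          · rw [← pow_two, F.ref_sq, F.zpow_eq_one_iff, hsub] at hx2
            push_cast at hx2
            have h2i : (2 : ℤ) ∣ i := by
              rw [add_zero, show (1 + ((2 : ℤ) ^ (j + 1) - 1)) * i = 2 ^ (j + 1) * i by ring,
                pow_succ 2 (j + 1)] at hx2
              exact Int.dvd_of_mul_dvd_mul_left (by positivity) hx2
            obtain ⟨u, rfl⟩ := h2i
            refine ⟨⟨(u : ZMod (2 ^ (j + 1))).val, ZMod.val_lt _⟩, ?_⟩
            rw [F.mul_b_eq_iff, ZMod.intCast_eq_intCast_iff_dvd_sub]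
            have h3 : ((2 ^ (j + 1) : ℕ) : ℤ) ∣ u - ((u : ZMod (2 ^ (j + 1))).val : ℤ) := by
              rw [← ZMod.intCast_zmod_eq_zero_iff_dvd]; simp
            rw [← mul_sub, show ((2 ^ (j + 2) : ℕ) : ℤ) = 2 * ((2 ^ (j + 1) : ℕ) : ℤ) by push_cast; ring]
            exact mul_dvd_mul_left 2 h3
        · rintro ⟨s, rfl⟩
          refine ⟨?_, fun h => ?_⟩
          · rw [← pow_two, F.ref_sq, F.zpow_eq_one_iff, hsub]; exact ⟨(s.val : ℤ), by push_cast; ring⟩
          · obtain ⟨i, hi⟩ := mem_zpowers_iff.1 h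
            exact F.zpow_ne_mul _ _ hi
      rw [e, Finset.card_image_of_injective, Finset.card_univ, Fintype.card_fin]
      intro s t h
      have h1 := F.mul_b_eq_iff.1 h
      have h2 := hinj (n := 2 ^ (j + 2)) (by push_cast; rfl)
        ⟨2 * s.val, by rw [pow_succ' 2 (j + 1)]; exact Nat.mul_lt_mul_of_pos_left s.isLt two_pos⟩
        ⟨2 * t.val, by rw [pow_succ' 2 (j + 1)]; exact Nat.mul_lt_mul_of_pos_left t.isLt two_pos⟩
        (by simpa using h1)
      have h3 := Fin.mk.inj_iff.1 h2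
      exact Fin.ext (by omega)
    rw [hcard] at hM
    obtain rfl := exp_one_of_add_one (odd_prime_of_ne_two hq2) hf1 hM
    rw [pow_one] at hM
    have hcardG : Nat.card G = 2 ^ (j + 2 + 1) := by rw [F.card]; ring
    refine ⟨by rw [hV]; ring, j + 1, by omega,
      Or.inr ⟨⟨j + 2, hk, hcardG, a, b, F.ord, ?_, ?_⟩, by rw [hcardG]⟩⟩
    · exact orderOf_eq_prime (p := 2) (hp := ⟨Nat.prime_two⟩) (by rw [pow_two, F.sq, zpow_zero])
        (fun e => F.notMem (e ▸ one_mem _))
    · rw [F.conj, ← zpow_natCast, Nat.cast_sub (Nat.one_le_two_pow)]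
      push_cast
      rfl

/-- A generalized quaternion frame has a unique involution. -/
theorem unique_of_quaternion_frame {k : ℕ} {a b : G} (hk : 2 ≤ k)
    (F : CyclicFrame (2 ^ k) (-1) (2 ^ (k - 1)) a b) : CfsgLib.Coprime.UniqueOrderP 2 G := by
  obtain ⟨j, rfl⟩ : ∃ j, k = j + 2 := ⟨k - 2, by omega⟩
  have key : ∀ x : G, x ^ 2 = 1 → x = 1 ∨ x = a ^ (2 ^ (j + 1) : ℤ) := by
    intro x hx
    obtain ⟨i, rfl | rfl⟩ := F.exists_eq x
    · rw [← zpow_natCast, ← zpow_mul, F.zpow_eq_one_iff] at hx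
      push_cast at hx
      obtain ⟨t, ht⟩ := hx
      have hi : i = 2 ^ (j + 1) * t := by
        rw [pow_succ, show (2 : ℤ) ^ (j + 1) * 2 * t = 2 ^ (j + 1) * t * 2 by ring] at ht
        omega
      rcases Int.even_or_odd' t with ⟨u, rfl | rfl⟩
      · exact Or.inl (F.zpow_eq_one_iff.2 ⟨u, by rw [hi]; push_cast; ring⟩)
      · refine Or.inr (F.zpow_eq_iff.2 ?_)
        rw [hi, ZMod.intCast_eq_intCast_iff_dvd_sub]
        exact ⟨-u, by push_cast; ring⟩
    · exfalso
      rw [F.ref_sq, F.zpow_eq_one_iff] at hx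
      push_cast at hx
      rw [zero_mul, zero_add] at hx
      have := Int.le_of_dvd (by positivity) hx
      have h2 : (0 : ℤ) < 2 ^ (j + 1) := by positivity
      rw [pow_succ] at this
      omega
  intro x y hx hy hx1
  rcases key y hy with rfl | rfl
  · exact one_mem _
  · rcases key x hx with rfl | rfl
    · exact absurd rfl hx1
    · exact mem_zpowers _

/-- A cyclic group has at most one subgroup of each prime order. -/
theorem unique_of_cyclic [Finite G] [IsCyclic G] {p : ℕ} [Fact p.Prime] :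
    CfsgLib.Coprime.UniqueOrderP p G := by
  classical
  haveI := Fintype.ofFinite G
  intro x y hx hy hx1
  have ho : orderOf x = p := orderOf_eq_prime hx hx1
  have h1 : (zpowers x : Set G).toFinset ⊆ Finset.univ.filter fun g : G => g ^ p = 1 := by
    intro g hg
    simp only [Set.mem_toFinset, SetLike.mem_coe] at hg
    obtain ⟨i, rfl⟩ := mem_zpowers_iff.1 hg
    simp only [Finset.mem_filter, Finset.mem_univ, true_and]
    rw [← zpow_natCast, ← zpow_mul, mul_comm, zpow_mul, zpow_natCast, hx, one_zpow]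
  have h2 := Finset.eq_of_subset_of_card_le h1 (by
    refine (IsCyclic.card_pow_eq_one_le (Fact.out : p.Prime).pos).trans (le_of_eq ?_)
    rw [Set.toFinset_card, ← Nat.card_eq_fintype_card]
    exact ((Nat.card_zpowers x).trans ho).symm)
  have h3 : y ∈ (zpowers x : Set G).toFinset := by rw [h2]; simp [hy]
  simpa using h3

end CfsgLib.Char.HalfLinear
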