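/-
Imprimitive half-transitive linear 2-groups.
-/
import Cfsg.Agent.Lib.Char.HalfLinear.Frame
import Cfsg.Agent.Lib.Char.PGroupImprimitive
import Mathlib.LinearAlgebra.Matrix.Notation
import Mathlib.Tactic

set_option autoImplicit false

namespace CfsgLib.Char.HalfLinear

open Subgroup

variable {q : ℕ} [Fact q.Prime] {V : Type*} [AddCommGroup V] [Module (ZMod q) V] {G : Type*} [Group G]
  {ρ : G →* (V ≃ₗ[ZMod q] V)}

/-- Two invariant blocks interchanged by the complement of a subgroup of index two. -/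
structure Pair (ρ : G →* (V ≃ₗ[ZMod q] V)) (H : Subgroup G) (W0 W1 : Submodule (ZMod q) V) : Prop where
  idx : H.index = 2
  dis : ∀ w ∈ W0, w ∈ W1 → w = 0
  dec : ∀ v : V, ∃ a ∈ W0, ∃ b ∈ W1, v = a + b
  inv0 : ∀ h ∈ H, ∀ w ∈ W0, ρ h w ∈ W0
  inv1 : ∀ h ∈ H, ∀ w ∈ W1, ρ h w ∈ W1
  swap0 : ∀ g, g ∉ H → ∀ w ∈ W0, ρ g w ∈ W1
  swap1 : ∀ g, g ∉ H → ∀ w ∈ W1, ρ g w ∈ W0
  ne0 : W0 ≠ ⊥
  ne1 : W1 ≠ ⊥
  fix0 : ∃ h ∈ H, h ≠ 1 ∧ ∀ w ∈ W0, ρ h w = w
  fix1 : ∃ h ∈ H, h ≠ 1 ∧ ∀ w ∈ W1, ρ h w = w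

variable {H : Subgroup G} {W0 W1 : Submodule (ZMod q) V}

theorem Pair.symm (P : Pair ρ H W0 W1) : Pair ρ H W1 W0 where
  idx := P.idx
  dis := fun w h1 h0 => P.dis w h0 h1
  dec := fun v => let ⟨a, ha, b, hb, e⟩ := P.dec v; ⟨b, hb, a, ha, e.trans (add_comm a b)⟩
  inv0 := P.inv1
  inv1 := P.inv0
  swap0 := P.swap1
  swap1 := P.swap0
  ne0 := P.ne1
  ne1 := P.ne0
  fix0 := P.fix1
  fix1 := P.fix0

theorem Pair.unique_sum (P : Pair ρ H W0 W1) {a a' b b' : V} (ha : a ∈ W0) (ha' : a' ∈ W0)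
    (hb : b ∈ W1) (hb' : b' ∈ W1) (e : a + b = a' + b') : a = a' ∧ b = b' := by
  have e' : a - a' = b' - b := by linear_combination (norm := abel) e
  have h1 : a - a' = 0 := P.dis _ (W0.sub_mem ha ha') (e' ▸ W1.sub_mem hb' hb)
  exact ⟨sub_eq_zero.1 h1, (sub_eq_zero.1 (e'.symm.trans h1)).symm⟩

theorem Pair.stab_le (P : Pair ρ H W0 W1) {v : V} (hv : v ∈ W0) (hv0 : v ≠ 0) : stab ρ v ≤ H := by
  intro g hg
  by_contra hgH
  exact hv0 (P.dis v hv ((show ρ g v = v from hg) ▸ P.swap0 g hgH v hv))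

theorem Pair.sum_mem_H (P : Pair ρ H W0 W1) {a b : V} (ha : a ∈ W0) (hb : b ∈ W1) {g : G}
    (hg : ρ g (a + b) = a + b) (hgH : g ∈ H) : ρ g a = a ∧ ρ g b = b :=
  P.unique_sum (P.inv0 g hgH a ha) ha (P.inv1 g hgH b hb) hb (by rw [← map_add, hg])

theorem Pair.orbit_le_two [Finite G] (P : Pair ρ H W0 W1) (hT : HT ρ) {v v2 : V} (hv : v ∈ W0)
    (hv0 : v ≠ 0) (h2 : v2 ∈ W1) {a b : G} (ha : ρ a v = v) (hb : ρ b v = v) :
    ρ a v2 = v2 ∨ ρ b v2 = v2 ∨ ρ a v2 = ρ b v2 := by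
  classical
  rcases eq_or_ne v2 0 with rfl | h20
  · exact Or.inl (map_zero _)
  have hsum : v + v2 ≠ 0 := fun e => h20 (by
    refine P.dis v2 ?_ h2
    rw [eq_neg_of_add_eq_zero_right e]; exact W0.neg_mem hv)
  set S := stab ρ (v + v2)
  set L := stab ρ v
  haveI := Subgroup.normal_of_index_eq_two P.idx
  have hle : H.subgroupOf S ≤ (L ⊓ stab ρ v2).subgroupOf S := fun g hg => P.sum_mem_H hv h2 g.2 hg
  have hidx : H.relIndex S ≤ 2 :=
    Nat.le_of_dvd two_pos (P.idx ▸ Subgroup.relIndex_dvd_index_of_normal H S)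
  have h1 : Nat.card (H.subgroupOf S) * H.relIndex S = Nat.card S := (H.subgroupOf S).card_mul_index
  have h3 : Nat.card (H.subgroupOf S) ≤ Nat.card ((stab ρ v2).subgroupOf L) := by
    refine Nat.card_le_card_of_injective
      (fun g => ⟨⟨g.1.1, (hle g.2).1⟩, (hle g.2).2⟩) fun g g' h => ?_
    exact Subtype.ext (Subtype.ext (congrArg (fun t => (t.1.1 : G)) h))
  have h4 := ((stab ρ v2).subgroupOf L).card_mul_index
  have h5 : ((stab ρ v2).subgroupOf L).index ≤ 2 := by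
    have hc : Nat.card L = Nat.card S := hT v (v + v2) hv0 hsum
    have hpos : 0 < Nat.card ((stab ρ v2).subgroupOf L) := Nat.card_pos
    refine Nat.le_of_mul_le_mul_left ?_ hpos
    rw [h4, hc, ← h1]
    exact Nat.mul_le_mul h3 hidx
  have h6 : ((stab ρ v2).subgroupOf L).index ≠ 0 := Subgroup.index_ne_zero_of_finite
  by_contra hall
  push Not at hall
  rcases (show ((stab ρ v2).subgroupOf L).index = 1 ∨ ((stab ρ v2).subgroupOf L).index = 2 by omega) with e | e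
  · have : (⟨a, ha⟩ : L) ∈ (stab ρ v2).subgroupOf L := by
      rw [Subgroup.index_eq_one.1 e]; exact mem_top _
    exact hall.1 this
  · have hm : (⟨a, ha⟩ : L)⁻¹ * ⟨b, hb⟩ ∈ (stab ρ v2).subgroupOf L := by
      rw [Subgroup.mul_mem_iff_of_index_two e, inv_mem_iff]
      exact iff_of_false hall.1 hall.2.1
    have hm' : ρ (a⁻¹ * b) v2 = v2 := hm
    refine hall.2.2 ?_
    conv_lhs => rw [← hm']
    rw [← mulρ, mul_inv_cancel_left]

theorem Pair.image_two [Finite G] (P : Pair ρ H W0 W1) (hT : HT ρ) (hq2 : q ≠ 2) {v : V} (hv : v ∈ W0)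
    (hv0 : v ≠ 0) {x y : G} (hx : ρ x v = v) (hy : ρ y v = v) (hx1 : ∃ w ∈ W1, ρ x w ≠ w) :
    (∀ w ∈ W1, ρ y w = w) ∨ ∀ w ∈ W1, ρ y w = ρ x w := by
  have h2 := two_ne_zero' hq2
  have hxH : x ∈ H := P.stab_le hv hv0 hx
  have hyH : y ∈ H := P.stab_le hv hv0 hy
  have horb := fun (w : V) (hw : w ∈ W1) => P.orbit_le_two hT hv hv0 hw (a := x) (b := y) hx hy
  have hsq : ∀ w ∈ W1, ∀ g : G, ρ g v = v → ρ g (ρ g w) = w := by
    intro w hw g hg
    rcases P.orbit_le_two hT hv hv0 hw (a := g) (b := g⁻¹) hg (inv_apply hg) with h | h | h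
    · rw [h, h]
    · have h' := inv_apply h
      rw [inv_inv] at h'
      rw [h', h']
    · rw [h, ← mulρ, mul_inv_cancel, oneρ]
  have hcomm : ∀ w ∈ W1, ρ x (ρ y w) = ρ y (ρ x w) := by
    intro w hw
    rcases horb w hw with h | h | h
    · rw [h]
      rcases horb (ρ y w) (P.inv1 y hyH w hw) with h' | h' | h'
      · exact h'
      · have hyw : ρ y w = w := (ρ y).injective h'
        rw [hyw, h]
      · have hww : ρ x (ρ y w) = w := by rw [h', hsq w hw y hy]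
        have : ρ y w = w := (ρ x).injective (hww.trans h.symm)
        rw [this, h]
    · rw [h]
      rcases horb (ρ x w) (P.inv1 x hxH w hw) with h' | h' | h'
      · have hxw : ρ x w = w := (ρ x).injective h'
        rw [hxw, h]
      · exact h'.symm
      · have hww : ρ y (ρ x w) = w := by rw [← h', hsq w hw x hx]
        have : ρ x w = w := (ρ y).injective (hww.trans h.symm)
        rw [this, h]
    · rw [← h, hsq w hw x hx, h, hsq w hw y hy]
  have hneg : ∀ u : V, ρ x u = -u → ρ x u = u → u = 0 := by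
    intro u h1 h3
    rw [h1, neg_eq_iff_add_eq_zero, ← two_smul (ZMod q), smul_eq_zero] at h3
    exact h3.resolve_left h2
  -- the plus part is fixed by `y`
  have hA : ∀ u ∈ W1, u ≠ 0 → ρ x u = -u → ∀ w ∈ W1, ρ x w = w → ρ y w = w := by
    intro u hu hu0 hxu w hw hxw
    set d := ρ y w - w with hd
    have hd1 : ρ x d = d := by rw [hd, map_sub, hcomm w hw, hxw]
    have hd2 : ρ x d = -d := by
      rcases horb (u + w) (W1.add_mem hu hw) with h | h | h
      · exfalso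
        rw [map_add, hxu, hxw] at h
        exact hu0 (hneg u hxu (hxu.trans (add_right_cancel h)))
      · rw [map_add] at h
        have e : d = u - ρ y u := by rw [hd]; linear_combination (norm := abel) h
        rw [e, map_sub, hcomm u hu, hxu, map_neg]; abel
      · rw [map_add, map_add, hxu, hxw] at h
        have e : d = -u - ρ y u := by rw [hd]; linear_combination (norm := abel) h.symm
        rw [e, map_sub, map_neg, hcomm u hu, hxu, map_neg]; abel
    exact sub_eq_zero.1 (hneg d hd2 hd1)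
  have hpm : ∀ u ∈ W1, ρ x u = -u → ρ y u = u ∨ ρ y u = -u := by
    intro u hu hxu
    rcases horb u hu with h | h | h
    · rw [hneg u hxu h, map_zero]; exact Or.inl rfl
    · exact Or.inl h
    · exact Or.inr (h.symm.trans hxu)
  have hxinv : ∀ w ∈ W1, ρ x (ρ x w) = w := fun w hw => hsq w hw x hx
  have hsplit : ∀ w ∈ W1, ∃ a ∈ W1, ∃ u ∈ W1, ρ x a = a ∧ ρ x u = -u ∧ w = a + u := by
    intro w hw
    refine ⟨(2 : ZMod q)⁻¹ • (w + ρ x w), W1.smul_mem _ (W1.add_mem hw (P.inv1 x hxH w hw)),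
      (2 : ZMod q)⁻¹ • (w - ρ x w), W1.smul_mem _ (W1.sub_mem hw (P.inv1 x hxH w hw)), ?_, ?_, ?_⟩
    · rw [map_smul, map_add, hxinv w hw, add_comm]
    · rw [map_smul, map_sub, hxinv w hw, ← smul_neg, neg_sub]
    · rw [← smul_add, add_add_sub_cancel, ← two_smul (ZMod q) w, inv_smul_smul₀ h2]
  obtain ⟨w0, hw0, hw0x⟩ := hx1
  obtain ⟨a0, ha0, u0, hu0, hxa0, hxu0, e0⟩ := hsplit w0 hw0
  have hu00 : u0 ≠ 0 := by
    intro e
    rw [e0, e, add_zero] at hw0x
    exact hw0x hxa0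
  have hyA := hA u0 hu0 hu00 hxu0
  rcases hpm u0 hu0 hxu0 with hyu | hyu
  · left
    intro w hw
    obtain ⟨a, ha, u, hu, hxa, hxu, rfl⟩ := hsplit w hw
    rw [map_add, hyA a ha hxa]
    congr 1
    rcases hpm u hu hxu with h | h
    · exact h
    · rcases eq_or_ne u 0 with rfl | hune
      · rw [map_zero]
      exfalso
      have h3 := hpm (u0 + u) (W1.add_mem hu0 hu) (by rw [map_add, hxu0, hxu, neg_add])
      rw [map_add, hyu, h] at h3
      rcases h3 with h3 | h3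
      · exact hune (hneg u hxu (hxu.trans (add_left_cancel h3)))
      · rw [neg_add] at h3
        exact hu00 (hneg u0 hxu0 (hxu0.trans (add_right_cancel h3).symm))
  · right
    intro w hw
    obtain ⟨a, ha, u, hu, hxa, hxu, rfl⟩ := hsplit w hw
    rw [map_add, map_add, hyA a ha hxa, hxa, hxu]
    congr 1
    rcases hpm u hu hxu with h | h
    · rcases eq_or_ne u 0 with rfl | hune
      · rw [map_zero, neg_zero]
      exfalso
      have h3 := hpm (u0 + u) (W1.add_mem hu0 hu) (by rw [map_add, hxu0, hxu, neg_add])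
      rw [map_add, hyu, h] at h3
      rcases h3 with h3 | h3
      · exact hu00 (hneg u0 hxu0 (hxu0.trans (add_right_cancel h3)))
      · rw [neg_add] at h3
        exact hune (hneg u hxu (hxu.trans (add_left_cancel h3).symm))
    · exact h

theorem Pair.eq_one (P : Pair ρ H W0 W1) (hρ : Function.Injective ρ) {g : G}
    (h0 : ∀ w ∈ W0, ρ g w = w) (h1 : ∀ w ∈ W1, ρ g w = w) : g = 1 :=
  eq_one_of_forall hρ fun v => by
    obtain ⟨a, ha, b, hb, rfl⟩ := P.dec v
    rw [map_add, h0 a ha, h1 b hb]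

/-- Every vector stabilizer in a block has order two and negates the other block. -/
theorem Pair.stab_two [Finite G] (P : Pair ρ H W0 W1) (hρ : Function.Injective ρ) (hT : HT ρ)
    (hq2 : q ≠ 2) : ∃ x : G, x ≠ 1 ∧ x ∈ H ∧ (∀ w ∈ W0, ρ x w = w) ∧ (∀ w ∈ W1, ρ x w = -w) ∧
      ∀ v ∈ W0, v ≠ 0 → ∀ g, ρ g v = v → g = 1 ∨ g = x := by
  obtain ⟨x, hxH, hx1, hx0⟩ := P.fix0
  obtain ⟨y, hyH, hy1, hy0⟩ := P.fix1
  have hxm : ∃ w ∈ W1, ρ x w ≠ w := by
    by_contra hall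
    push Not at hall
    exact hx1 (P.eq_one hρ hx0 hall)
  have hym : ∃ w ∈ W0, ρ y w ≠ w := by
    by_contra hall
    push Not at hall
    exact hy1 (P.eq_one hρ hall hy0)
  -- an element fixing the second block is 1 or y
  obtain ⟨u, hu, hu0⟩ := W1.exists_mem_ne_zero_of_ne_bot P.ne1
  have hK1 : ∀ g, (∀ w ∈ W1, ρ g w = w) → g = 1 ∨ g = y := by
    intro g hg
    rcases P.symm.image_two hT hq2 hu hu0 (x := y) (y := g) (hy0 u hu) (hg u hu) hym with h | h
    · exact Or.inl (P.eq_one hρ h hg)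
    · refine Or.inr (inv_mul_eq_one.1 (P.eq_one hρ (fun w hw => ?_) fun w hw => ?_)).symm
      · rw [mulρ, h w hw, ← mulρ, inv_mul_cancel, oneρ]
      · rw [mulρ, hg w hw, inv_apply (hy0 w hw)]
  have hclass : ∀ v ∈ W0, v ≠ 0 → ∀ g, ρ g v = v → (g = 1 ∨ g = y) ∨ (x⁻¹ * g = 1 ∨ x⁻¹ * g = y) := by
    intro v hv hv0 g hg
    rcases P.image_two hT hq2 hv hv0 (x := x) (y := g) (hx0 v hv) hg hxm with h | h
    · exact Or.inl (hK1 g h)
    · exact Or.inr (hK1 _ fun w hw => by rw [mulρ, h w hw, ← mulρ, inv_mul_cancel, oneρ])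
  obtain ⟨v0, hv0, hv0y⟩ := hym
  have hv00 : v0 ≠ 0 := fun e => hv0y (by rw [e, map_zero])
  have hst : ∀ g, ρ g v0 = v0 → g = 1 ∨ g = x := by
    intro g hg
    rcases hclass v0 hv0 hv00 g hg with (h | h) | (h | h)
    · exact Or.inl h
    · exact absurd (h ▸ hg) hv0y
    · exact Or.inr (inv_mul_eq_one.1 h).symm
    · exact absurd (show ρ y v0 = v0 by rw [← h, mulρ, hg, inv_apply (hx0 v0 hv0)]) hv0y
  have hcard : Nat.card (stab ρ v0) = 2 := by
    rw [Nat.card_eq_two_iff]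
    refine ⟨1, ⟨x, hx0 v0 hv0⟩, fun e => hx1 (congrArg Subtype.val e).symm, ?_⟩
    refine Set.eq_univ_of_forall fun g => ?_
    rcases hst g g.2 with h | h
    · exact Or.inl (Subtype.ext h)
    · exact Or.inr (Subtype.ext h)
  have hmain : ∀ v ∈ W0, v ≠ 0 → ∀ g, ρ g v = v → g = 1 ∨ g = x := by
    intro v hv hvne g hg
    have hc : Nat.card (stab ρ v) = 2 := (hT v v0 hvne hv00).trans hcard
    obtain ⟨a, b, hab, huniv⟩ := Nat.card_eq_two_iff.1 hc
    have hm := fun t : stab ρ v => (huniv.ge (Set.mem_univ t) : t ∈ ({a, b} : Set (stab ρ v)))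
    have h1 := hm 1
    have h2 := hm ⟨x, hx0 v hv⟩
    have h3 := hm ⟨g, hg⟩
    simp only [Set.mem_insert_iff, Set.mem_singleton_iff] at h1 h2 h3
    have hne : (⟨x, hx0 v hv⟩ : stab ρ v) ≠ 1 := fun e => hx1 (congrArg Subtype.val e)
    have h4 : (⟨g, hg⟩ : stab ρ v) = 1 ∨ (⟨g, hg⟩ : stab ρ v) = ⟨x, hx0 v hv⟩ := by
      rcases h1 with e1 | e1 <;> rcases h2 with e2 | e2 <;> rcases h3 with e3 | e3 <;>
        first
          | exact Or.inl (e3.trans e1.symm)
          | exact Or.inr (e3.trans e2.symm)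
          | exact absurd (e2.trans e1.symm) hne
    exact h4.imp (congrArg Subtype.val) (congrArg Subtype.val)
  have hxx : x * x = 1 := by
    rcases hst (x * x) (by rw [mulρ, hx0 v0 hv0, hx0 v0 hv0]) with h | h
    · exact h
    · exact absurd (mul_eq_left.1 h) hx1
  have hyy : y ≠ x := fun e => hx1 (P.eq_one hρ hx0 (e ▸ hy0))
  have hxneg : ∀ w ∈ W1, ρ x w = -w := by
    intro w hw
    set d := ρ x w + w with hd
    have hdW : d ∈ W1 := W1.add_mem (P.inv1 x hxH w hw) hw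
    have hxd : ρ x d = d := by rw [hd, map_add, ← mulρ, hxx, oneρ, add_comm]
    by_cases hd0 : d = 0
    · exact eq_neg_of_add_eq_zero_left hd0
    exfalso
    have h1 : x ∈ stab ρ d := hxd
    have h2 : y ∈ stab ρ d := hy0 d hdW
    have hc : Nat.card (stab ρ d) = 2 := (hT d v0 hd0 hv00).trans hcard
    obtain ⟨a, b, hab, huniv⟩ := Nat.card_eq_two_iff.1 hc
    have hm := fun t : stab ρ d => (huniv.ge (Set.mem_univ t) : t ∈ ({a, b} : Set (stab ρ d)))
    rcases hm 1 with e1 | e1 <;> rcases hm ⟨x, h1⟩ with e2 | e2 <;> rcases hm ⟨y, h2⟩ with e3 | e3 <;>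
      first
        | exact hx1 (congrArg Subtype.val (e2.trans e1.symm))
        | exact hy1 (congrArg Subtype.val (e3.trans e1.symm))
        | exact hyy (congrArg Subtype.val (e3.trans e2.symm))
  exact ⟨x, hx1, hxH, hx0, hxneg, hmain⟩

/-- The conclusion in the imprimitive case. -/
theorem Pair.conclusion [Finite G] [Finite V] (P : Pair ρ H W0 W1) (hρ : Function.Injective ρ)
    (hT : HT ρ) (hq2 : q ≠ 2) (hG : IsPGroup 2 G) :
    (Nat.card V = q ^ 2 ∧ (∃ m : ℕ, q = 2 ^ m + 1) ∧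
      ∃ e : V ≃ₗ[ZMod q] (Fin 2 → ZMod q), ∀ f : (Fin 2 → ZMod q) ≃ₗ[ZMod q] (Fin 2 → ZMod q),
        (∃ g : G, f = e.symm.trans ((ρ g).trans e)) ↔
        ∃ a s : ZMod q, a ≠ 0 ∧ (s = 1 ∨ s = -1) ∧
          ((∀ v, f v = ![a * v 0, s * a⁻¹ * v 1]) ∨ (∀ v, f v = ![s * a⁻¹ * v 1, a * v 0]))) ∨
      (Nat.card V = 81 ∧ q = 3) := by
  classical
  obtain ⟨x, hx1, hxH, hx0, hxn, hst⟩ := P.stab_two hρ hT hq2
  obtain ⟨y, hy1, hyH, hy0, hyn, hst'⟩ := P.symm.stab_two hρ hT hq2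
  have hdiag : ∀ v ∈ W0, v ≠ 0 → ∀ w ∈ W1, w ≠ 0 → ∀ g, ρ g v = v → ρ g w = w → g = 1 := by
    intro v hv hv0 w hw hw0 g hg hg'
    rcases hst v hv hv0 g hg with h | h
    · exact h
    · exfalso
      subst h
      rw [hxn w hw, neg_eq_iff_add_eq_zero, ← two_smul (ZMod q), smul_eq_zero] at hg'
      exact hw0 (hg'.resolve_left (two_ne_zero' hq2))
  have hswap : ∀ v ∈ W0, v ≠ 0 → ∀ w ∈ W1, w ≠ 0 → ∃ g, g ∉ H ∧ ρ g v = w ∧ ρ g w = v := by
    intro v hv hv0 w hw hw0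
    have hsum : v + w ≠ 0 := fun e => hw0 (by
      refine P.dis w ?_ hw
      rw [eq_neg_of_add_eq_zero_right e]; exact W0.neg_mem hv)
    have hne : stab ρ (v + w) ≠ ⊥ := fun e => by
      have h1 := hT v (v + w) hv0 hsum
      rw [e, Subgroup.card_bot] at h1
      exact hx1 (congrArg Subtype.val ((Nat.card_eq_one_iff_unique.1 h1).1.elim
        (⟨x, hx0 v hv⟩ : stab ρ v) 1))
    obtain ⟨g, hg, hg1⟩ := (Subgroup.bot_or_exists_ne_one _).resolve_left hne
    have hgH : g ∉ H := fun hgH => hg1 (by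
      obtain ⟨h1, h2⟩ := P.sum_mem_H hv hw hg hgH
      exact hdiag v hv hv0 w hw hw0 g h1 h2)
    have e : ρ g w + ρ g v = v + w := by rw [← map_add, add_comm w v]; exact hg
    obtain ⟨h1, h2⟩ := P.unique_sum (P.swap1 g hgH w hw) hv (P.swap0 g hgH v hv) hw e
    exact ⟨g, hgH, h2, h1⟩
  obtain ⟨v1, hv1, hv10⟩ := W0.exists_mem_ne_zero_of_ne_bot P.ne0
  obtain ⟨v2, hv2, hv20⟩ := W1.exists_mem_ne_zero_of_ne_bot P.ne1
  obtain ⟨g0, hg0H, hg01, hg02⟩ := hswap v1 hv1 hv10 v2 hv2 hv20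
  -- `H` is transitive on the first block
  have htr : ∀ w ∈ W0, w ≠ 0 → ∃ h ∈ H, ρ h v1 = w := by
    intro w hw hw0
    obtain ⟨g, hgH, hgw, hgv⟩ := hswap w hw hw0 v2 hv2 hv20
    exact ⟨g * g0, by rw [Subgroup.mul_mem_iff_of_index_two P.idx]; exact iff_of_false hgH hg0H,
      by rw [mulρ, hg01, hgv]⟩
  haveI := Fintype.ofFinite V
  obtain ⟨d, hd⟩ := card_module (q := q) (V := W0)
  have hcard1 : Nat.card W1 = Nat.card W0 := by
    refine Nat.card_congr
      { toFun := fun w => ⟨ρ g0 w, P.swap1 g0 hg0H w w.2⟩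
        invFun := fun w => ⟨ρ g0⁻¹ w, P.swap0 g0⁻¹ (fun h => hg0H (inv_mem_iff.1 h)) w w.2⟩
        left_inv := fun w => Subtype.ext (by
          show ρ g0⁻¹ (ρ g0 w) = w; rw [← mulρ, inv_mul_cancel, oneρ])
        right_inv := fun w => Subtype.ext (by
          show ρ g0 (ρ g0⁻¹ w) = w; rw [← mulρ, mul_inv_cancel, oneρ]) }
  have hV : Nat.card V = q ^ d * q ^ d := by
    rw [← hd]
    conv_rhs => arg 2; rw [← hcard1]
    rw [← Nat.card_prod]
    refine (Nat.card_congr (Equiv.ofBijective (fun w : W0 × W1 => (w.1 : V) + w.2) ⟨?_, ?_⟩)).symm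
    · intro w w' e
      obtain ⟨h1, h2⟩ := P.unique_sum w.1.2 w'.1.2 w.2.2 w'.2.2 e
      exact Prod.ext (Subtype.ext h1) (Subtype.ext h2)
    · intro v
      obtain ⟨a, ha, b, hb, rfl⟩ := P.dec v
      exact ⟨(⟨a, ha⟩, ⟨b, hb⟩), rfl⟩
  have hcount : ∃ k, q ^ d = 2 ^ k + 1 := by
    have h1 := card_orbit (ρ := ρ.comp H.subtype) v1
    obtain ⟨n, hn⟩ := IsPGroup.iff_card.1 (hG.to_subgroup H)
    rw [hn] at h1
    obtain ⟨k, -, hk⟩ := (Nat.dvd_prime_pow Nat.prime_two).1 (Dvd.intro _ h1)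
    refine ⟨k, ?_⟩
    have e : {u : V | ∃ g : H, (ρ.comp H.subtype) g v1 = u} = (W0 : Set V) \ {0} := by
      ext u
      constructor
      · rintro ⟨g, rfl⟩
        exact ⟨P.inv0 g g.2 v1 hv1, fun e => hv10 ((LinearEquiv.map_eq_zero_iff _).1 e)⟩
      · rintro ⟨hu, hu0⟩
        obtain ⟨h, hh, e⟩ := htr u hu hu0
        exact ⟨⟨h, hh⟩, e⟩
    rw [e, Nat.card_coe_set_eq, Set.ncard_diff_singleton_of_mem W0.zero_mem,
      ← Nat.card_coe_set_eq, show Nat.card (W0 : Set V) = q ^ d from hd] at hk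
    have : 1 ≤ q ^ d := Nat.one_le_pow _ _ (Fact.out : q.Prime).pos
    omega
  obtain ⟨k, hk⟩ := hcount
  have hd1 : 1 ≤ d := by
    by_contra hc
    have : d = 0 := by omega
    subst this
    have h2 : 0 < 2 ^ k := Nat.two_pow_pos k
    rw [pow_zero] at hk
    omega
  rcases exp_one_of_sub_one (odd_prime_of_ne_two hq2) hd1 hk with rfl | ⟨rfl, rfl⟩
  swap
  · exact Or.inr ⟨by rw [hV]; norm_num, rfl⟩
  left
  rw [pow_one] at hV hd hk
  -- coordinates
  have hline : ∀ w ∈ W0, ∃ c : ZMod q, w = c • v1 := by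
    intro w hw
    have hinj : Function.Injective (fun c : ZMod q => (⟨c • v1, W0.smul_mem c hv1⟩ : W0)) := by
      intro c c' e
      exact smul_left_injective (ZMod q) hv10 (congrArg Subtype.val e)
    have hbij := (Nat.bijective_iff_injective_and_card _).2 ⟨hinj, by rw [Nat.card_zmod, hd]⟩
    obtain ⟨c, hc⟩ := hbij.2 ⟨w, hw⟩
    exact ⟨c, (congrArg Subtype.val hc).symm⟩
  let φ : (Fin 2 → ZMod q) →ₗ[ZMod q] V :=
    { toFun := fun c => c 0 • v1 + c 1 • v2
      map_add' := fun c c' => by simp only [Pi.add_apply, add_smul]; abel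
      map_smul' := fun r c => by simp only [Pi.smul_apply, smul_eq_mul, mul_smul, smul_add, RingHom.id_apply] }
  have hφi : Function.Injective φ := by
    intro c c' e
    obtain ⟨h1, h2⟩ := P.unique_sum (W0.smul_mem (c 0) hv1) (W0.smul_mem (c' 0) hv1)
      (W1.smul_mem (c 1) hv2) (W1.smul_mem (c' 1) hv2) e
    funext i
    fin_cases i
    · exact smul_left_injective (ZMod q) hv10 h1
    · exact smul_left_injective (ZMod q) hv20 h2
  have hφb : Function.Bijective φ := (Nat.bijective_iff_injective_and_card _).2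
    ⟨hφi, by rw [Nat.card_fun, Nat.card_zmod, Nat.card_fin, hV, pow_two]⟩
  let e : V ≃ₗ[ZMod q] (Fin 2 → ZMod q) := (LinearEquiv.ofBijective φ hφb).symm
  have he : ∀ c, e.symm c = c 0 • v1 + c 1 • v2 := fun c => rfl
  -- elements
  have hdia : ∀ a : ZMod q, a ≠ 0 → ∃ h ∈ H, ρ h v1 = a • v1 ∧ ρ h v2 = a⁻¹ • v2 := by
    intro a ha
    obtain ⟨g, hgH, hg1, hg2⟩ := hswap v1 hv1 hv10 (a • v2) (W1.smul_mem a hv2) (smul_ne_zero ha hv20)
    refine ⟨g0 * g, by rw [Subgroup.mul_mem_iff_of_index_two P.idx]; exact iff_of_false hg0H hgH,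
      by rw [mulρ, hg1, map_smul, hg02], ?_⟩
    have : ρ g v2 = a⁻¹ • v1 := by
      rw [map_smul] at hg2
      rw [← hg2, inv_smul_smul₀ ha]
    rw [mulρ, this, map_smul, hg01]
  have hclass : ∀ h ∈ H, ∃ a s : ZMod q, a ≠ 0 ∧ (s = 1 ∨ s = -1) ∧
      ρ h v1 = a • v1 ∧ ρ h v2 = (s * a⁻¹) • v2 := by
    intro h hh
    obtain ⟨a, ha⟩ := hline _ (P.inv0 h hh v1 hv1)
    have ha0 : a ≠ 0 := fun e => hv10 ((LinearEquiv.map_eq_zero_iff _).1 (ha.trans (by rw [e, zero_smul])))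
    obtain ⟨c, hcH, hc1, hc2⟩ := hdia a ha0
    have : ρ (c⁻¹ * h) v1 = v1 := by rw [mulρ, ha, ← hc1, ← mulρ, inv_mul_cancel, oneρ]
    rcases hst v1 hv1 hv10 _ this with e' | e'
    · rw [inv_mul_eq_one] at e'
      subst e'
      exact ⟨a, 1, ha0, Or.inl rfl, ha, by rw [one_mul, hc2]⟩
    · rw [inv_mul_eq_iff_eq_mul] at e'
      subst e'
      exact ⟨a, -1, ha0, Or.inr rfl, ha, by
        rw [mulρ, hxn v2 hv2, map_neg, hc2, neg_one_mul, neg_smul]⟩
  have hg00 : ρ (g0 * g0) v1 = v1 ∧ ρ (g0 * g0) v2 = v2 :=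
    ⟨by rw [mulρ, hg01, hg02], by rw [mulρ, hg02, hg01]⟩
  refine ⟨by rw [hV, pow_two], ⟨k, hk⟩, e, fun f => ?_⟩
  have hf : ∀ (g : G) (al be : V), ρ g v1 = al → ρ g v2 = be → ∀ c : Fin 2 → ZMod q,
      (e.symm.trans ((ρ g).trans e)) c = e (c 0 • al + c 1 • be) := by
    intro g al be h1 h2 c
    show e (ρ g (e.symm c)) = _
    rw [he, map_add, map_smul (ρ g), map_smul (ρ g), h1, h2]
  have hee : ∀ c0 c1 : ZMod q, e (c0 • v1 + c1 • v2) = ![c0, c1] := fun c0 c1 => by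
    rw [← e.apply_symm_apply ![c0, c1], he]
    simp
  constructor
  · rintro ⟨g, rfl⟩
    by_cases hgH : g ∈ H
    · obtain ⟨a, s, ha0, hs, h1, h2⟩ := hclass g hgH
      refine ⟨a, s, ha0, hs, Or.inl fun c => ?_⟩
      rw [hf g _ _ h1 h2, smul_smul, smul_smul, hee, mul_comm (c 0), mul_comm (c 1)]
    · obtain ⟨a, s, ha0, hs, h1, h2⟩ := hclass (g0 * g)
        (by rw [Subgroup.mul_mem_iff_of_index_two P.idx]; exact iff_of_false hg0H hgH)
      refine ⟨a, s, ha0, hs, Or.inr fun c => ?_⟩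
      have hgg : g0 * g0 = 1 := hdiag v1 hv1 hv10 v2 hv2 hv20 _ hg00.1 hg00.2
      have h1' : ρ g v1 = a • v2 := by
        rw [show g = g0 * (g0 * g) by rw [← mul_assoc, hgg, one_mul], mulρ, h1, map_smul, hg01]
      have h2' : ρ g v2 = (s * a⁻¹) • v1 := by
        rw [show g = g0 * (g0 * g) by rw [← mul_assoc, hgg, one_mul], mulρ, h2, map_smul, hg02]
      rw [hf g _ _ h1' h2', smul_smul, smul_smul, add_comm, hee, mul_comm (c 0), mul_comm (c 1)]
  · rintro ⟨a, s, ha0, hs, h⟩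
    obtain ⟨c, -, hc1, hc2⟩ := hdia a ha0
    obtain ⟨h0, hh1, hh2⟩ : ∃ h0, ρ h0 v1 = a • v1 ∧ ρ h0 v2 = (s * a⁻¹) • v2 := by
      rcases hs with rfl | rfl
      · exact ⟨c, hc1, by rw [one_mul, hc2]⟩
      · exact ⟨c * x, by rw [mulρ, hx0 v1 hv1, hc1],
          by rw [mulρ, hxn v2 hv2, map_neg, hc2, neg_one_mul, neg_smul]⟩
    rcases h with h | h
    · refine ⟨h0, LinearEquiv.ext fun v => ?_⟩
      rw [h, hf h0 _ _ hh1 hh2, smul_smul, smul_smul, hee, mul_comm (v 0), mul_comm (v 1)]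
    · refine ⟨g0 * h0, LinearEquiv.ext fun v => ?_⟩
      have h1' : ρ (g0 * h0) v1 = a • v2 := by rw [mulρ, hh1, map_smul, hg01]
      have h2' : ρ (g0 * h0) v2 = (s * a⁻¹) • v1 := by rw [mulρ, hh2, map_smul, hg02]
      rw [h, hf (g0 * h0) _ _ h1' h2', smul_smul, smul_smul, add_comm, hee, mul_comm (v 0),
        mul_comm (v 1)]

/-- No noncyclic normal abelian subgroup for odd `p`; two blocks for `p = 2`. -/
theorem blocks_case {p : ℕ} [hp : Fact p.Prime] [Finite G] [Finite V] [Nontrivial V]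
    (hG : IsPGroup p G) (hρ : Function.Injective ρ) (hT : HT ρ) (hirr : Irred ρ)
    {B : Subgroup G} [B.Normal] (hBc : IsMulCommutative B) (hBnc : ¬ IsCyclic B) :
    p = 2 ∧ ∃ (H : Subgroup G) (W0 W1 : Submodule (ZMod q) V), Pair ρ H W0 W1 := by
  classical
  obtain ⟨H, W, hidx, hsup, hind, hinv, hfix, hperm⟩ :=
    PGroupImprimitive.main hG ρ hρ hirr hBc hBnc
  have hmap : ∀ g, g ∉ H → ∃ σ : Equiv.Perm (Fin p), orderOf σ = p ∧
      ∀ i, ∀ w ∈ W i, ρ g w ∈ W (σ i) := fun g hg => by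
    obtain ⟨σ, hσ, h⟩ := hperm g hg
    exact ⟨σ, hσ, fun i w hw => (h i) ▸ Submodule.mem_map_of_mem hw⟩
  have hnf : ∀ σ : Equiv.Perm (Fin p), orderOf σ = p → ∀ i, σ i ≠ i := by
    intro σ hσ i hi
    have hc : σ.IsCycle := Equiv.Perm.isCycle_of_prime_order' (hσ.symm ▸ hp.out) (by
      rw [hσ, Fintype.card_fin]; have := hp.out.pos; omega)
    have h1 : σ.support = Finset.univ := Finset.eq_univ_of_card _ (by
      rw [← hc.orderOf, hσ, Fintype.card_fin])
    exact Equiv.Perm.mem_support.1 (h1.ge (Finset.mem_univ i)) hi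
  obtain ⟨g, hg⟩ : ∃ g, g ∉ H := by
    by_contra hall
    push Not at hall
    rw [(Subgroup.eq_top_iff' H).2 hall, Subgroup.index_top] at hidx
    exact hp.out.ne_one hidx.symm
  have hne : ∀ i, W i ≠ ⊥ := by
    intro i hi
    obtain ⟨σ, hσ, h⟩ := hperm g hg
    have hall : ∀ n : ℕ, W ((σ ^ n) i) = ⊥ := by
      intro n
      induction n with
      | zero => simpa using hi
      | succ n ih => rw [pow_succ', Equiv.Perm.mul_apply, ← h, ih, Submodule.map_bot]
    have hc : σ.IsCycle := Equiv.Perm.isCycle_of_prime_order' (hσ.symm ▸ hp.out) (by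
      rw [hσ, Fintype.card_fin]; have := hp.out.pos; omega)
    have : iSup W = ⊥ := iSup_eq_bot.2 fun j => by
      obtain ⟨n, -, hn⟩ := (hc.sameCycle (hnf σ hσ i) (hnf σ hσ j)).exists_pow_eq'
      rw [← hn]; exact hall n
    exact bot_ne_top (this.symm.trans hsup)
  have hdis : ∀ i, ∀ w ∈ W i, w ∈ (⨆ (j : Fin p) (_ : j ≠ i), W j) → w = 0 :=
    fun i => Submodule.disjoint_def.1 (hind i)
  have hin : ∀ {i j : Fin p} {w : V}, j ≠ i → w ∈ W j → w ∈ (⨆ (j : Fin p) (_ : j ≠ i), W j) :=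
    fun {i j w} hji hw => Submodule.mem_iSup_of_mem j (Submodule.mem_iSup_of_mem hji hw)
  have hp2 : p = 2 := by
    by_contra hp2
    have key : ∀ i j, i ≠ j → ∀ a ∈ W i, a ≠ 0 → ∀ b ∈ W j, b ≠ 0 → stab ρ a = stab ρ b := by
      intro i j hij a ha ha0 b hb hb0
      have hab0 : a + b ≠ 0 := fun e => ha0 (hdis i a ha (by
        rw [eq_neg_of_add_eq_zero_left e]; exact Submodule.neg_mem _ (hin hij.symm hb)))
      have h1 : ∀ x ∈ stab ρ (a + b), ρ x a = a ∧ ρ x b = b := by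
        intro x hx
        have e : ρ x a + ρ x b = a + b := by rw [← map_add]; exact hx
        by_cases hxH : x ∈ H
        · have e' : ρ x a - a = b - ρ x b := by linear_combination (norm := abel) e
          have h2 : ρ x a - a = 0 := hdis i _ ((W i).sub_mem (hinv x hxH i a ha) ha) (by
            rw [e']; exact Submodule.sub_mem _ (hin hij.symm hb) (hin hij.symm (hinv x hxH j b hb)))
          exact ⟨sub_eq_zero.1 h2, (sub_eq_zero.1 (e'.symm.trans h2)).symm⟩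
        · exfalso
          obtain ⟨σ, hσ, hw⟩ := hmap x hxH
          by_cases hsi : σ i = j
          · have hsj : σ j ≠ i := by
              intro h
              refine hnf (σ ^ 2) ?_ i (by rw [pow_two, Equiv.Perm.mul_apply, hsi, h])
              rw [Nat.Coprime.orderOf_pow]
              · exact hσ
              · rw [hσ]; exact (Nat.coprime_primes hp.out Nat.prime_two).2 hp2
            have e' : ρ x b = a + b - ρ x a := by linear_combination (norm := abel) e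
            refine hb0 ((LinearEquiv.map_eq_zero_iff (ρ x)).1 (hdis (σ j) _ (hw j b hb) ?_))
            rw [e']
            exact Submodule.sub_mem _ (Submodule.add_mem _ (hin hsj.symm ha) (hin (hnf σ hσ j).symm hb))
              (hin (fun h => hij (σ.injective h)) (hw i a ha))
          · have e' : ρ x a = a + b - ρ x b := by linear_combination (norm := abel) e
            refine ha0 ((LinearEquiv.map_eq_zero_iff (ρ x)).1 (hdis (σ i) _ (hw i a ha) ?_))
            rw [e']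
            exact Submodule.sub_mem _ (Submodule.add_mem _ (hin (hnf σ hσ i).symm ha) (hin (Ne.symm hsi) hb))
              (hin (fun h => hij (σ.injective h).symm) (hw j b hb))
      have h3 : stab ρ (a + b) = stab ρ a :=
        Subgroup.eq_of_le_of_card_ge (fun x hx => (h1 x hx).1) (hT a (a + b) ha0 hab0).le
      have h4 : stab ρ (a + b) = stab ρ b :=
        Subgroup.eq_of_le_of_card_ge (fun x hx => (h1 x hx).2) (hT b (a + b) hb0 hab0).le
      rw [← h3, h4]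
    obtain ⟨i0⟩ : Nonempty (Fin p) := ⟨⟨0, hp.out.pos⟩⟩
    obtain ⟨a0, ha0, ha00⟩ := (W i0).exists_mem_ne_zero_of_ne_bot (hne i0)
    obtain ⟨h, hh, hh1, hhfix⟩ := hfix i0
    obtain ⟨j0, hj0⟩ : ∃ j, j ≠ i0 := Fintype.exists_ne_of_one_lt_card (by
      rw [Fintype.card_fin]; exact hp.out.one_lt) i0
    obtain ⟨b0, hb0, hb00⟩ := (W j0).exists_mem_ne_zero_of_ne_bot (hne j0)
    refine hh1 (eq_one_of_forall hρ fun v => ?_)
    have hle : iSup W ≤ fix ρ h := iSup_le fun i w hw => by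
      rcases eq_or_ne w 0 with rfl | hw0
      · exact map_zero _
      by_cases hi : i = i0
      · subst hi; exact hhfix w hw
      · exact (key i0 i (Ne.symm hi) a0 ha0 ha00 w hw hw0).le (hhfix a0 ha0)
    exact hle (hsup.ge Submodule.mem_top)
  subst hp2
  refine ⟨rfl, H, W 0, W 1, hidx, fun w h0 h1 => hdis 0 w h0 (hin (by decide) h1), fun v => ?_,
    fun h hh => hinv h hh 0, fun h hh => hinv h hh 1, ?_, ?_, hne 0, hne 1, hfix 0, hfix 1⟩
  · have h2 : W 0 ⊔ W 1 = ⊤ := by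
      refine eq_top_iff.2 (hsup ▸ iSup_le fun i => ?_)
      fin_cases i
      · exact le_sup_left
      · exact le_sup_right
    obtain ⟨a, ha, b, hb, e⟩ := Submodule.mem_sup.1 (h2.ge (Submodule.mem_top (x := v)))
    exact ⟨a, ha, b, hb, e.symm⟩
  · intro x hx w hw
    obtain ⟨σ, hσ, h⟩ := hmap x hx
    have h1 := hnf σ hσ 0
    have h2 : σ 0 = 1 := by omega
    exact h2 ▸ h 0 w hw
  · intro x hx w hw
    obtain ⟨σ, hσ, h⟩ := hmap x hx
    have h1 := hnf σ hσ 1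
    have h2 : σ 1 = 0 := by omega
    exact h2 ▸ h 1 w hw

end CfsgLib.Char.HalfLinear
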